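import Mathlib
import Groth.Agent.CAlg48.PSEval
import Groth.Agent.DeltaFlat.Basic
import Groth.Agent.Adic.Rig.Core

/-!
# Presentations of completions after a base field extension
-/

set_option autoImplicit false
set_option linter.style.haveILetI false

universe u v w

open IsLocalRing
open scoped TensorProduct

namespace Groth.Agent.ComplBC

/-- Ring maps out of a ring with a dense subring. -/
theorem hom_ext_of_dense {R : Type u} {T : Type v} {S : Type w} [CommRing R] [CommRing T] [CommRing S]
    (ι : R →+* T) (I : Ideal R) (hdense : ∀ (n : ℕ) x, ∃ r, x - ι r ∈ (I ^ n).map ι)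
    (J : Ideal S) [IsHausdorff J S] (F G : T →+* S) (h : ∀ r, F (ι r) = G (ι r))
    (hI : I.map (F.comp ι) ≤ J) : F = G := by
  refine RingHom.ext fun x => ?_
  rw [IsHausdorff.eq_iff_smodEq (I := J)]
  intro n
  rw [SModEq.sub_mem, Ideal.smul_eq_mul, Ideal.mul_top]
  obtain ⟨r, hr⟩ := hdense n x
  have key : ∀ H : T →+* S, (∀ r, H (ι r) = F (ι r)) → H (x - ι r) ∈ J ^ n := by
    intro H hH
    have h1 := Ideal.mem_map_of_mem H hr
    rw [Ideal.map_map, Ideal.map_pow] at h1
    have : H.comp ι = F.comp ι := RingHom.ext hH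
    rw [this] at h1
    exact Ideal.pow_right_mono hI n h1
  have := Ideal.sub_mem _ (key F fun _ => rfl) (key G fun r => (h r).symm)
  simpa only [map_sub, h, sub_sub_sub_cancel_right] using this

section Completion

variable {R : Type u} [CommRing R] (I : Ideal R)

theorem completion_dense (hI : I.FG) (n : ℕ) (x : AdicCompletion I R) :
    ∃ r, x - algebraMap R (AdicCompletion I R) r ∈ (I ^ n).map (algebraMap R (AdicCompletion I R)) := by
  obtain ⟨r, hr⟩ := Submodule.Quotient.mk_surjective _ (x.val n)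
  refine ⟨r, ?_⟩
  rw [← Submodule.restrictScalars_mem R, ← Ideal.smul_top_eq_map,
    AdicCompletion.pow_smul_top_eq_ker_eval hI, LinearMap.mem_ker, map_sub, sub_eq_zero,
    AdicCompletion.algebraMap_apply]
  exact hr.symm

/-- Extension of a ring map to the completion. -/
theorem exists_extend {T : Type v} [CommRing T] (J : Ideal T) [IsAdicComplete J T] (φ : R →+* T)
    (h : I.map φ ≤ J) :
    ∃ F : AdicCompletion I R →+* T, ∀ r, F (algebraMap R (AdicCompletion I R) r) = φ r := by
  have hle : ∀ n, I ^ n ≤ (J ^ n).comap φ := fun n => by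
    rw [← Ideal.map_le_iff_le_comap, Ideal.map_pow]
    exact Ideal.pow_right_mono h n
  let f : ∀ n, AdicCompletion I R →+* T ⧸ J ^ n := fun n =>
    (Ideal.quotientMap (J ^ n) φ (hle n)).comp (AdicCompletion.evalₐ I n).toRingHom
  have hf : ∀ {m n : ℕ} (hmn : m ≤ n), (Ideal.Quotient.factorPow J hmn).comp (f n) = f m := by
    intro m n hmn
    refine RingHom.ext fun x => ?_
    obtain ⟨s, rfl⟩ := AdicCompletion.mk_surjective I R x
    have hs : s.val m - s.val n ∈ I ^ m := by
      have := SModEq.sub_mem.mp (s.property hmn)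
      rwa [Ideal.smul_eq_mul, Ideal.mul_top] at this
    simp only [f, RingHom.coe_comp, Function.comp_apply, AlgHom.toRingHom_eq_coe, RingHom.coe_coe,
      AdicCompletion.evalₐ_mk, Ideal.quotientMap_mk]
    show Ideal.Quotient.mk (J ^ m) _ = Ideal.Quotient.mk (J ^ m) _
    refine (Ideal.Quotient.eq.mpr ?_).symm
    rw [← map_sub]
    exact hle m hs
  refine ⟨IsAdicComplete.liftRingHom J f hf, fun r => ?_⟩
  rw [IsHausdorff.eq_iff_smodEq (I := J)]
  intro n
  rw [SModEq.sub_mem, Ideal.smul_eq_mul, Ideal.mul_top, ← Ideal.Quotient.eq,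
    IsAdicComplete.mk_liftRingHom]
  simp only [f, RingHom.coe_comp, Function.comp_apply, AlgHom.toRingHom_eq_coe, RingHom.coe_coe,
    AdicCompletion.algebraMap_apply, AdicCompletion.evalₐ_of, Ideal.quotientMap_mk]
  rfl

end Completion

section PowerSeries

open MvPowerSeries

variable {σ : Type v} [Finite σ] {κ : Type u} [CommRing κ]

theorem powerSeries_dense (n : ℕ) (f : MvPowerSeries σ κ) :
    ∃ p : MvPolynomial σ κ, f - MvPolynomial.coeToMvPowerSeries.ringHom p ∈
      (MvPolynomial.idealOfVars σ κ ^ n).map MvPolynomial.coeToMvPowerSeries.ringHom := by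
  let E := toAdicCompletionAlgEquiv σ κ
  obtain ⟨p, hp⟩ := completion_dense _ (MvPolynomial.idealOfVars_fg σ κ) n (E f)
  refine ⟨p, ?_⟩
  have h := Ideal.mem_map_of_mem E.symm.toAlgHom.toRingHom hp
  have hc : E.symm.toAlgHom.toRingHom.comp (algebraMap (MvPolynomial σ κ) _) =
      MvPolynomial.coeToMvPowerSeries.ringHom := RingHom.ext fun q => E.symm.commutes q
  rw [Ideal.map_map, hc] at h
  have e : E.symm.toAlgHom.toRingHom (E f - algebraMap _ _ p) =
      f - MvPolynomial.coeToMvPowerSeries.ringHom p := by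
    show E.symm (E f - algebraMap _ _ p) = _
    rw [map_sub, E.symm_apply_apply, E.symm.commutes]
    rfl
  rwa [e] at h

omit [Finite σ] in
theorem map_idealOfVars :
    (MvPolynomial.idealOfVars σ κ).map MvPolynomial.coeToMvPowerSeries.ringHom =
      Ideal.span (Set.range (X : σ → MvPowerSeries σ κ)) := by
  rw [MvPolynomial.idealOfVars, Ideal.map_span, ← Set.range_comp]
  congr 2
  exact funext fun i => MvPolynomial.coe_X i

theorem sub_C_mem (f : MvPowerSeries σ κ) :
    f - C (constantCoeff f) ∈ Ideal.span (Set.range (X : σ → MvPowerSeries σ κ)) := by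
  obtain ⟨p, hp⟩ := powerSeries_dense 1 f
  rw [pow_one, map_idealOfVars] at hp
  have hker : Ideal.span (Set.range (X : σ → MvPowerSeries σ κ)) ≤ RingHom.ker (constantCoeff : MvPowerSeries σ κ →+* κ) := by
    rw [Ideal.span_le]; rintro _ ⟨i, rfl⟩; simp
  have hp0 : p - MvPolynomial.C (MvPolynomial.constantCoeff p) ∈ MvPolynomial.idealOfVars σ κ := by
    rw [← pow_one (MvPolynomial.idealOfVars σ κ), MvPolynomial.mem_pow_idealOfVars_iff']
    intro x hx
    rw [Nat.lt_one_iff, Finsupp.degree_eq_zero_iff] at hx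
    subst hx
    simp [MvPolynomial.constantCoeff_eq]
  have hq := Ideal.mem_map_of_mem MvPolynomial.coeToMvPowerSeries.ringHom hp0
  rw [map_idealOfVars] at hq
  have h2 := Ideal.add_mem _ hp hq
  rw [map_sub, sub_add_sub_cancel, show (MvPolynomial.coeToMvPowerSeries.ringHom
    (MvPolynomial.C (MvPolynomial.constantCoeff p)) : MvPowerSeries σ κ) = C (MvPolynomial.constantCoeff p)
      from MvPolynomial.coe_C _] at h2
  have h3 := hker h2
  rw [RingHom.mem_ker, map_sub, constantCoeff_C, sub_eq_zero] at h3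
  rwa [← h3] at h2

theorem powerSeries_hom_ext {S : Type w} [CommRing S] (J : Ideal S) [IsHausdorff J S]
    (F G : MvPowerSeries σ κ →+* S) (hC : ∀ a, F (C a) = G (C a)) (hX : ∀ i, F (X i) = G (X i))
    (hJ : ∀ i, F (X i) ∈ J) : F = G := by
  have hd : ∀ (n : ℕ) (f : MvPowerSeries σ κ), ∃ p : MvPolynomial σ κ,
      f - MvPolynomial.coeToMvPowerSeries.ringHom p ∈
        (MvPolynomial.idealOfVars σ κ ^ n).map MvPolynomial.coeToMvPowerSeries.ringHom :=
    fun n f => powerSeries_dense n f
  let ι : MvPolynomial σ κ →+* MvPowerSeries σ κ := MvPolynomial.coeToMvPowerSeries.ringHom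
  have h0 : F.comp ι = G.comp ι := by
    refine MvPolynomial.ringHom_ext (fun a => ?_) (fun i => ?_)
    · show F (ι (MvPolynomial.C a)) = G (ι (MvPolynomial.C a))
      rw [show ι (MvPolynomial.C a) = C a from MvPolynomial.coe_C a]
      exact hC a
    · show F (ι (MvPolynomial.X i)) = G (ι (MvPolynomial.X i))
      rw [show ι (MvPolynomial.X i) = X i from MvPolynomial.coe_X i]
      exact hX i
  have h1 : (MvPolynomial.idealOfVars σ κ).map (F.comp ι) ≤ J := by
    rw [← Ideal.map_map, map_idealOfVars, Ideal.map_le_iff_le_comap, Ideal.span_le]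
    rintro _ ⟨i, rfl⟩
    exact hJ i
  exact hom_ext_of_dense ι (MvPolynomial.idealOfVars σ κ) hd J F G (fun p => RingHom.congr_fun h0 p) h1

end PowerSeries

end Groth.Agent.ComplBC
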