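import Groth.Agent.ComplBC.Core

/-!
# `κ(B)[[X]]/(g) ≅ B^` from `κ(A)[[X]]/(g) ≅ A^`, for `B` a localization of `A ⊗ K` with `m_A B = m_B`
-/

set_option autoImplicit false
set_option linter.style.haveILetI false
set_option maxHeartbeats 1000000

universe u

open IsLocalRing
open scoped TensorProduct

namespace Groth.Agent.ComplBC

section Quot

open MvPowerSeries

variable {κ : Type u} [Field κ] {n : ℕ} (I : Ideal (MvPowerSeries (Fin n) κ))
  (hI : ∀ f ∈ I, constantCoeff f = 0)

/-- The constant coefficient on the quotient. -/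
noncomputable def cc : MvPowerSeries (Fin n) κ ⧸ I →+* κ := Ideal.Quotient.lift I constantCoeff hI

lemma cc_mk (f : MvPowerSeries (Fin n) κ) : cc I hI (Ideal.Quotient.mk I f) = constantCoeff f := rfl

lemma isUnit_of_cc_ne_zero {q : MvPowerSeries (Fin n) κ ⧸ I} (h : cc I hI q ≠ 0) : IsUnit q := by
  obtain ⟨f, rfl⟩ := Ideal.Quotient.mk_surjective q
  exact (MvPowerSeries.isUnit_iff_constantCoeff.mpr (isUnit_iff_ne_zero.mpr h)).map _

lemma mem_of_cc_eq_zero {q : MvPowerSeries (Fin n) κ ⧸ I} (h : cc I hI q = 0) :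
    q ∈ (Ideal.span (Set.range (X : Fin n → MvPowerSeries (Fin n) κ))).map (Ideal.Quotient.mk I) := by
  obtain ⟨f, rfl⟩ := Ideal.Quotient.mk_surjective q
  rw [cc_mk] at h
  have := sub_C_mem f
  rw [h, map_zero, sub_zero] at this
  exact Ideal.mem_map_of_mem _ this

end Quot

section Main

variable {k K A B : Type u} [Field k] [Field K] [Algebra k K] [CommRing A] [CommRing B]
  [IsLocalRing A] [IsLocalRing B] [IsNoetherianRing A] [IsNoetherianRing B] [Algebra k A] [Algebra K B]

omit [IsNoetherianRing A] [IsNoetherianRing B] [Algebra K B] in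
theorem exists_residue_localization (φ : A →+* B) (hm : (maximalIdeal A).map φ = maximalIdeal B)
    [IsLocalHom φ] (ψ : A ⊗[k] K →+* B) (h1 : ∀ a, ψ (a ⊗ₜ 1) = φ a)
    (hloc : letI := ψ.toAlgebra; IsLocalization.AtPrime B ((maximalIdeal B).comap ψ))
    (ζ : ResidueField A ⊗[k] K →+* ResidueField B)
    (hζ : ∀ (a : A) (c : K), ζ (residue A a ⊗ₜ c) = residue B (ψ (a ⊗ₜ c))) :
    letI := ζ.toAlgebra
    haveI := RingHom.ker_isPrime ζ
    IsLocalization (RingHom.ker ζ).primeCompl (ResidueField B) := by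
  letI := ζ.toAlgebra
  haveI := RingHom.ker_isPrime ζ
  letI := ψ.toAlgebra
  haveI := hloc
  let ρ : A →ₐ[k] ResidueField A := IsScalarTower.toAlgHom k A (ResidueField A)
  have hρ : Function.Surjective ρ := residue_surjective
  let π := Algebra.TensorProduct.map ρ (AlgHom.id k K)
  have hπ : Function.Surjective π := TensorProduct.map_surjective hρ Function.surjective_id
  have hπζ : ∀ r, ζ (π r) = residue B (ψ r) := by
    intro r
    induction r using TensorProduct.induction_on with
    | zero => simp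
    | tmul a c => exact hζ a c
    | add x y hx hy => simp only [map_add, hx, hy]
  have hker : RingHom.ker π = (maximalIdeal A).map
      (Algebra.TensorProduct.includeLeft : A →ₐ[k] A ⊗[k] K) := by
    rw [Algebra.TensorProduct.rTensor_ker _ hρ]
    congr 1
    exact IsLocalRing.ker_residue
  refine (isLocalization_iff _ _).mpr ⟨?_, ?_, ?_⟩
  · rintro ⟨v, hv⟩
    exact isUnit_iff_ne_zero.mpr fun h => hv (RingHom.mem_ker.mpr h)
  · intro z
    obtain ⟨b, rfl⟩ := residue_surjective z
    obtain ⟨⟨r, s, hs⟩, h⟩ := IsLocalization.surj ((maximalIdeal B).comap ψ).primeCompl b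
    refine ⟨⟨π r, π s, fun h0 => ?_⟩, ?_⟩
    · rw [SetLike.mem_coe, RingHom.mem_ker, hπζ] at h0
      exact hs ((residue_eq_zero_iff _).mp h0)
    · show residue B b * ζ (π s) = ζ (π r)
      rw [hπζ, hπζ, ← map_mul]
      exact congrArg _ h
  · intro x y hxy
    obtain ⟨r, rfl⟩ := hπ x
    obtain ⟨r', rfl⟩ := hπ y
    have h0 : ψ (r - r') ∈ maximalIdeal B := by
      rw [← residue_eq_zero_iff, map_sub, map_sub, sub_eq_zero, ← hπζ, ← hπζ]
      exact hxy
    have e : maximalIdeal B = (RingHom.ker π).map (algebraMap (A ⊗[k] K) B) := by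
      rw [hker, ← hm]
      show _ = Ideal.map _ ((maximalIdeal A).map
        (Algebra.TensorProduct.includeLeft : A →ₐ[k] A ⊗[k] K).toRingHom)
      rw [Ideal.map_map]
      congr 1
      exact RingHom.ext fun a => (h1 a).symm
    rw [e] at h0
    obtain ⟨⟨⟨i, hi⟩, s, hs⟩, hh⟩ :=
      (IsLocalization.mem_map_algebraMap_iff ((maximalIdeal B).comap ψ).primeCompl B).mp h0
    have hh' : algebraMap (A ⊗[k] K) B ((r - r') * s) = algebraMap _ B i :=
      (map_mul _ _ _).trans hh
    obtain ⟨⟨t, ht⟩, htt⟩ := (IsLocalization.eq_iff_exists ((maximalIdeal B).comap ψ).primeCompl B).mp hh'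
    refine ⟨⟨π (t * s), fun h2 => ?_⟩, ?_⟩
    · rw [SetLike.mem_coe, RingHom.mem_ker, hπζ, map_mul] at h2
      exact (((maximalIdeal B).comap ψ).primeCompl.mul_mem ht hs)
        (by rw [SetLike.mem_coe, Ideal.mem_comap, ← residue_eq_zero_iff, map_mul]; exact h2)
    · show π (t * s) * π r = π (t * s) * π r'
      rw [← sub_eq_zero, ← mul_sub, ← map_sub, ← map_mul,
        show t * s * (r - r') = t * ((r - r') * s) by ring]
      show π (t * ((r - r') * s)) = 0
      simp only at htt
      rw [htt, map_mul, RingHom.mem_ker.mp hi, mul_zero]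

theorem exists_presentation (φ : A →+* B) (hm : (maximalIdeal A).map φ = maximalIdeal B)
    [IsLocalHom φ] (ψ : A ⊗[k] K →+* B) (h1 : ∀ a, ψ (a ⊗ₜ 1) = φ a)
    (h2 : ∀ c, ψ (1 ⊗ₜ c) = algebraMap K B c)
    (hφk : ∀ c : k, φ (algebraMap k A c) = algebraMap K B (algebraMap k K c))
    (hloc : letI := ψ.toAlgebra; IsLocalization.AtPrime B ((maximalIdeal B).comap ψ))
    {n m : ℕ} (g : Fin m → MvPowerSeries (Fin n) (ResidueField A))
    (e : (MvPowerSeries (Fin n) (ResidueField A) ⧸ Ideal.span (Set.range g)) ≃ₐ[k]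
      AdicCompletion (maximalIdeal A) A)
    (he : ∀ a : A, e (Ideal.Quotient.mk _ (MvPowerSeries.C (residue A a))) -
        algebraMap A (AdicCompletion (maximalIdeal A) A) a ∈
      (maximalIdeal A).map (algebraMap A (AdicCompletion (maximalIdeal A) A))) :
    ∃ e' : (MvPowerSeries (Fin n) (ResidueField B) ⧸ Ideal.span (Set.range (fun j =>
        MvPowerSeries.map (σ := Fin n) (ResidueField.map φ) (g j)))) ≃ₐ[K]
          AdicCompletion (maximalIdeal B) B,
      ∀ b : B, e' (Ideal.Quotient.mk _ (MvPowerSeries.C (residue B b))) -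
          algebraMap B (AdicCompletion (maximalIdeal B) B) b ∈
        (maximalIdeal B).map (algebraMap B (AdicCompletion (maximalIdeal B) B)) := by
  classical
  let ιA := algebraMap A (AdicCompletion (maximalIdeal A) A)
  let ιB := algebraMap B (AdicCompletion (maximalIdeal B) B)
  have fgA := (maximalIdeal A).fg_of_isNoetherianRing
  have fgB := (maximalIdeal B).fg_of_isNoetherianRing
  -- residue maps of the completions
  let εA : AdicCompletion (maximalIdeal A) A →+* ResidueField A :=
    (AdicCompletion.evalOneₐ (maximalIdeal A)).toRingHom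
  have hεA : ∀ a, εA (ιA a) = residue A a := fun a => rfl
  have hεAk : RingHom.ker εA = (maximalIdeal A).map ιA := AdicCompletion.ker_evalOneₐ_eq_map _ fgA
  let εB : AdicCompletion (maximalIdeal B) B →+* ResidueField B :=
    (AdicCompletion.evalOneₐ (maximalIdeal B)).toRingHom
  have hεB : ∀ b, εB (ιB b) = residue B b := fun a => rfl
  have hεBk : RingHom.ker εB = (maximalIdeal B).map ιB := AdicCompletion.ker_evalOneₐ_eq_map _ fgB
  -- functoriality
  let J := maximalIdeal (AdicCompletion (maximalIdeal B) B)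
  have hJ : J = (maximalIdeal B).map ιB := AdicCompletion.maximalIdeal_eq_map
  obtain ⟨F, hF⟩ := exists_extend (maximalIdeal A) J (ιB.comp φ)
    (by rw [← Ideal.map_map, hm, hJ])
  have hFJ : (maximalIdeal A).map (F.comp ιA) ≤ J := by
    rw [show F.comp ιA = ιB.comp φ from RingHom.ext hF, ← Ideal.map_map, hm, hJ]
  let res : ResidueField A →+* ResidueField B := ResidueField.map φ
  have hFε : ∀ z, εB (F z) = res (εA z) := by
    intro z
    obtain ⟨a, ha⟩ := completion_dense _ fgA 1 z
    rw [pow_one] at ha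
    have h0 : εA (z - ιA a) = 0 := (hεAk.ge ha :)
    have h0' : εB (F (z - ιA a)) = 0 := by
      have := Ideal.mem_map_of_mem F ha
      rw [Ideal.map_map] at this
      exact (hεBk.ge (hJ ▸ hFJ this) :)
    rw [map_sub, hεA, sub_eq_zero] at h0
    rw [map_sub, map_sub, sub_eq_zero, hF] at h0'
    rw [h0, h0', RingHom.comp_apply, hεB]
    rfl
  -- the coefficient maps
  let I := Ideal.span (Set.range g)
  let mkA := Ideal.Quotient.mk I
  let E : MvPowerSeries (Fin n) (ResidueField A) →+* AdicCompletion (maximalIdeal A) A :=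
    e.toRingEquiv.toRingHom.comp mkA
  haveI : Nontrivial (MvPowerSeries (Fin n) (ResidueField A) ⧸ I) :=
    e.toRingEquiv.toEquiv.nontrivial
  have hg0 : ∀ f ∈ I, MvPowerSeries.constantCoeff f = 0 := by
    intro f hf
    by_contra h
    exact (Ideal.Quotient.nontrivial_iff.mp ‹_›) (Ideal.eq_top_of_isUnit_mem _ hf
      (MvPowerSeries.isUnit_iff_constantCoeff.mpr (isUnit_iff_ne_zero.mpr h)))
  have hC : ∀ a, εA (E (MvPowerSeries.C a)) = a := by
    intro a
    obtain ⟨a, rfl⟩ := residue_surjective a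
    have := hεAk.ge (he a)
    rw [RingHom.mem_ker, map_sub, sub_eq_zero] at this
    exact this.trans (hεA a)
  have hX : ∀ i, εA (E (MvPowerSeries.X i)) = 0 := by
    intro i
    refine (hεAk.ge ?_ :)
    rw [← AdicCompletion.maximalIdeal_eq_map, IsLocalRing.mem_maximalIdeal, mem_nonunits_iff]
    intro hu
    have h' : IsUnit (mkA (MvPowerSeries.X i)) := by
      have := hu.map e.symm.toRingEquiv.toRingHom
      simpa [E] using this
    have := h'.map (cc I hg0)
    simp [mkA, cc_mk] at this
  have hE : ∀ f, εA (E f) = MvPowerSeries.constantCoeff f := by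
    intro f
    have hle : Ideal.span (Set.range (MvPowerSeries.X : Fin n → MvPowerSeries (Fin n) (ResidueField A))) ≤
        RingHom.ker (εA.comp E) := by
      rw [Ideal.span_le]; rintro _ ⟨i, rfl⟩; exact hX i
    have := hle (sub_C_mem f)
    rw [RingHom.mem_ker, map_sub, sub_eq_zero] at this
    exact this.trans (hC _)
  let σA : ResidueField A →+* AdicCompletion (maximalIdeal A) A := E.comp MvPowerSeries.C
  have hσAk : ∀ c : k, σA (algebraMap k (ResidueField A) c) = ιA (algebraMap k A c) := by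
    intro c
    show e (Ideal.Quotient.mk I (MvPowerSeries.C (algebraMap k (ResidueField A) c))) = _
    rw [show Ideal.Quotient.mk I (MvPowerSeries.C (algebraMap k (ResidueField A) c)) =
      algebraMap k (MvPowerSeries (Fin n) (ResidueField A) ⧸ I) c from by
        rw [IsScalarTower.algebraMap_apply k (MvPowerSeries (Fin n) (ResidueField A)) (_ ⧸ I),
          MvPowerSeries.algebraMap_apply]
        rfl, AlgEquiv.commutes]
    exact IsScalarTower.algebraMap_apply k A _ c
  have hkA : ∀ c : k, res (algebraMap k (ResidueField A) c) = residue B (algebraMap K B (algebraMap k K c)) := by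
    intro c
    rw [← hφk]
    rfl
  obtain ⟨ζ, hζ1, hζ2⟩ := DeltaFlat.exists_lift (A := k) res ((residue B).comp (algebraMap K B))
    (RingHom.ext hkA)
  have hζ : ∀ (a : A) (c : K), ζ (residue A a ⊗ₜ c) = residue B (ψ (a ⊗ₜ c)) := by
    intro a c
    rw [show residue A a ⊗ₜ[k] c = residue A a ⊗ₜ[k] (1 : K) * (1 : ResidueField A) ⊗ₜ[k] c by
        rw [Algebra.TensorProduct.tmul_mul_tmul, mul_one, one_mul],
      show a ⊗ₜ[k] c = a ⊗ₜ[k] (1 : K) * (1 : A) ⊗ₜ[k] c by
        rw [Algebra.TensorProduct.tmul_mul_tmul, mul_one, one_mul],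
      map_mul, map_mul, map_mul, hζ1, hζ2, h1, h2]
    rfl
  have hlocζ := exists_residue_localization φ hm ψ h1 hloc ζ hζ
  obtain ⟨θ, hθ1, hθ2⟩ := DeltaFlat.exists_lift (A := k) (F.comp σA) (ιB.comp (algebraMap K B))
    (RingHom.ext fun c => by
      show F (σA (algebraMap k (ResidueField A) c)) = ιB (algebraMap K B (algebraMap k K c))
      rw [hσAk, hF, ← hφk]
      rfl)
  have hθε : ∀ r, εB (θ r) = ζ r := by
    intro r
    induction r using TensorProduct.induction_on with
    | zero => simp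
    | tmul a c =>
      rw [show a ⊗ₜ[k] c = a ⊗ₜ[k] (1 : K) * (1 : ResidueField A) ⊗ₜ[k] c by
        rw [Algebra.TensorProduct.tmul_mul_tmul, mul_one, one_mul]]
      simp only [map_mul, hθ1, hθ2, hζ1, hζ2, RingHom.coe_comp, Function.comp_apply, hFε, hεB]
      rw [show εA (σA a) = a from hC a]
    | add x y hx hy => simp only [map_add, hx, hy]
  haveI := RingHom.ker_isPrime ζ
  letI algζ := ζ.toAlgebra
  haveI := hlocζ
  have hθu : ∀ v : (RingHom.ker ζ).primeCompl, IsUnit (θ v) := by
    intro v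
    refine IsLocalRing.notMem_maximalIdeal.mp fun h => v.2 ?_
    rw [AdicCompletion.maximalIdeal_eq_map] at h
    have := hεBk.ge h
    rw [RingHom.mem_ker, hθε] at this
    exact this
  let σB : ResidueField B →+* AdicCompletion (maximalIdeal B) B := IsLocalization.lift hθu
  have hσ : ∀ r, σB (ζ r) = θ r := IsLocalization.lift_eq hθu
  have hσε : εB.comp σB = RingHom.id _ :=
    IsLocalization.ringHom_ext (RingHom.ker ζ).primeCompl (RingHom.ext fun r =>
      (congrArg εB (hσ r)).trans (hθε r))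
  have hσres : ∀ a, σB (res a) = F (σA a) := fun a => by rw [← hζ1, hσ, hθ1]; rfl
  have hσK : ∀ c, σB (residue B (algebraMap K B c)) = ιB (algebraMap K B c) := fun c => by
    rw [show residue B (algebraMap K B c) = ζ (1 ⊗ₜ c) from (hζ2 c).symm, hσ, hθ2]; rfl
  -- the forward map
  let g' := fun j => MvPowerSeries.map (σ := Fin n) res (g j)
  let I' := Ideal.span (Set.range g')
  obtain ⟨Φ, hΦC, hΦX⟩ : ∃ Φ : MvPowerSeries (Fin n) (ResidueField B) →+* AdicCompletion (maximalIdeal B) B,
      (∀ a, Φ (MvPowerSeries.C a) = σB a) ∧ ∀ i, Φ (MvPowerSeries.X i) = F (E (MvPowerSeries.X i)) := by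
    letI := σB.toAlgebra
    obtain ⟨Φ, hΦ⟩ := CAlg48.PSEval.exists_algHom (k := ResidueField B) J
      (fun i => F (E (MvPowerSeries.X i))) fun i => by
        rw [hJ, ← hεBk, RingHom.mem_ker, hFε, hX, map_zero]
    refine ⟨Φ.toRingHom, fun a => ?_, hΦ⟩
    exact Φ.commutes a
  have hXJ : ∀ i, F (E (MvPowerSeries.X i)) ∈ J := fun i => by
    rw [hJ, ← hεBk, RingHom.mem_ker, hFε, hX, map_zero]
  have hΦmap : Φ.comp (MvPowerSeries.map res) = F.comp E := by
    refine powerSeries_hom_ext J _ _ (fun a => ?_) (fun i => ?_) fun i => ?_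
    · simp only [RingHom.coe_comp, Function.comp_apply, MvPowerSeries.map_C, hΦC, hσres]
      rfl
    · simp only [RingHom.coe_comp, Function.comp_apply, MvPowerSeries.map_X, hΦX]
    · simp only [RingHom.coe_comp, Function.comp_apply, MvPowerSeries.map_X, hΦX]
      exact hXJ i
  have hI' : ∀ f ∈ I', Φ f = 0 := by
    suffices I' ≤ RingHom.ker Φ from fun f hf => this hf
    rw [Ideal.span_le]
    rintro _ ⟨j, rfl⟩
    show Φ (MvPowerSeries.map res (g j)) = 0
    rw [show Φ (MvPowerSeries.map res (g j)) = F (E (g j)) from RingHom.congr_fun hΦmap (g j)]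
    have : E (g j) = 0 := by
      show e (mkA (g j)) = 0
      rw [show mkA (g j) = 0 from Ideal.Quotient.eq_zero_iff_mem.mpr (Ideal.subset_span ⟨j, rfl⟩), map_zero]
    rw [this, map_zero]
  let Φ' := Ideal.Quotient.lift I' Φ hI'
  -- the inverse map
  have hg0' : ∀ f ∈ I', MvPowerSeries.constantCoeff f = 0 := by
    suffices I' ≤ RingHom.ker (MvPowerSeries.constantCoeff (σ := Fin n) (R := ResidueField B)) from
      fun f hf => this hf
    rw [Ideal.span_le]
    rintro _ ⟨j, rfl⟩
    show MvPowerSeries.constantCoeff (MvPowerSeries.map res (g j)) = 0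
    rw [MvPowerSeries.constantCoeff_map, hg0 _ (Ideal.subset_span ⟨j, rfl⟩), map_zero]
  let Jc := (Ideal.span (Set.range (MvPowerSeries.X : Fin n → MvPowerSeries (Fin n) (ResidueField B)))).map
    (Ideal.Quotient.mk I')
  haveI : IsAdicComplete Jc (MvPowerSeries (Fin n) (ResidueField B) ⧸ I') :=
    Adic.Rig.isAdicComplete_quotient I'
  let mapC : (MvPowerSeries (Fin n) (ResidueField A) ⧸ I) →+* (MvPowerSeries (Fin n) (ResidueField B) ⧸ I') :=
    Ideal.quotientMap I' (MvPowerSeries.map res) (by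
      rw [Ideal.span_le]
      rintro _ ⟨j, rfl⟩
      exact Ideal.subset_span ⟨j, rfl⟩)
  let G : AdicCompletion (maximalIdeal A) A →+* (MvPowerSeries (Fin n) (ResidueField B) ⧸ I') :=
    mapC.comp e.symm.toRingEquiv.toRingHom
  have hGE : ∀ f, G (E f) = Ideal.Quotient.mk I' (MvPowerSeries.map res f) := by
    intro f
    show mapC (e.symm (e (mkA f))) = _
    rw [AlgEquiv.symm_apply_apply]
    rfl
  have hGε : ∀ z, cc I' hg0' (G z) = res (εA z) := by
    intro z
    obtain ⟨f, rfl⟩ : ∃ f, E f = z := by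
      obtain ⟨f, hf⟩ := Ideal.Quotient.mk_surjective (e.symm z)
      exact ⟨f, (congrArg e hf).trans (e.apply_symm_apply z)⟩
    rw [hGE, cc_mk, MvPowerSeries.constantCoeff_map, hE]
  let jK : K →+* MvPowerSeries (Fin n) (ResidueField B) ⧸ I' :=
    ((Ideal.Quotient.mk I').comp MvPowerSeries.C).comp ((residue B).comp (algebraMap K B))
  obtain ⟨Θ, hΘ1, hΘ2⟩ := DeltaFlat.exists_lift (A := k) (G.comp ιA) jK
    (RingHom.ext fun c => by
      show G (ιA (algebraMap k A c)) = Ideal.Quotient.mk I' (MvPowerSeries.C (residue B (algebraMap K B (algebraMap k K c))))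
      rw [← hσAk, ← hkA]
      show G (E (MvPowerSeries.C _)) = _
      rw [hGE, MvPowerSeries.map_C])
  have hΘε : ∀ r, cc I' hg0' (Θ r) = residue B (ψ r) := by
    intro r
    induction r using TensorProduct.induction_on with
    | zero => simp
    | tmul a c =>
      rw [show a ⊗ₜ[k] c = a ⊗ₜ[k] (1 : K) * (1 : A) ⊗ₜ[k] c by
        rw [Algebra.TensorProduct.tmul_mul_tmul, mul_one, one_mul]]
      simp only [map_mul, hΘ1, hΘ2, h1, h2, RingHom.coe_comp, Function.comp_apply, hGε, hεA, jK,
        cc_mk, MvPowerSeries.constantCoeff_C]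
      rfl
    | add x y hx hy => simp only [map_add, hx, hy]
  letI algψ := ψ.toAlgebra
  haveI := hloc
  have hΘu : ∀ v : ((maximalIdeal B).comap ψ).primeCompl, IsUnit (Θ v) := fun v =>
    isUnit_of_cc_ne_zero I' hg0' (by rw [hΘε]; exact fun h => v.2 ((residue_eq_zero_iff _).mp h))
  let ΨB : B →+* MvPowerSeries (Fin n) (ResidueField B) ⧸ I' := IsLocalization.lift hΘu
  have hΨψ : ∀ r, ΨB (ψ r) = Θ r := IsLocalization.lift_eq hΘu
  have hΨε : (cc I' hg0').comp ΨB = residue B :=
    IsLocalization.ringHom_ext ((maximalIdeal B).comap ψ).primeCompl (RingHom.ext fun r =>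
      (congrArg (cc I' hg0') (hΨψ r)).trans (hΘε r))
  obtain ⟨Ψ, hΨ⟩ := exists_extend (maximalIdeal B) Jc ΨB (by
    rw [Ideal.map_le_iff_le_comap]
    intro b hb
    exact mem_of_cc_eq_zero I' hg0' ((RingHom.congr_fun hΨε b).trans ((residue_eq_zero_iff _).mpr hb)))
  have hΨJ : (maximalIdeal B).map (Ψ.comp ιB) ≤ Jc := by
    rw [show Ψ.comp ιB = ΨB from RingHom.ext hΨ, Ideal.map_le_iff_le_comap]
    intro b hb
    exact mem_of_cc_eq_zero I' hg0' ((RingHom.congr_fun hΨε b).trans ((residue_eq_zero_iff _).mpr hb))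
  -- `Ψ ∘ F = G`
  have hΨF : Ψ.comp F = G := by
    refine hom_ext_of_dense ιA (maximalIdeal A) (completion_dense _ fgA) Jc _ _ (fun a => ?_) ?_
    · rw [RingHom.comp_apply, hF, RingHom.comp_apply, hΨ, ← h1, hΨψ, hΘ1]
      rfl
    · rw [RingHom.comp_assoc, show F.comp ιA = ιB.comp φ from RingHom.ext hF, ← RingHom.comp_assoc,
        ← Ideal.map_map, hm]
      exact hΨJ
  have hΨσ : Ψ.comp σB = (Ideal.Quotient.mk I').comp MvPowerSeries.C := by
    refine IsLocalization.ringHom_ext (RingHom.ker ζ).primeCompl (RingHom.ext fun r => ?_)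
    show Ψ (σB (ζ r)) = Ideal.Quotient.mk I' (MvPowerSeries.C (ζ r))
    rw [hσ]
    induction r using TensorProduct.induction_on with
    | zero => simp
    | tmul a c =>
      rw [show a ⊗ₜ[k] c = a ⊗ₜ[k] (1 : K) * (1 : ResidueField A) ⊗ₜ[k] c by
        rw [Algebra.TensorProduct.tmul_mul_tmul, mul_one, one_mul]]
      simp only [map_mul, hθ1, hθ2, hζ1, hζ2, RingHom.coe_comp, Function.comp_apply]
      congr 1
      · rw [show Ψ (F (σA a)) = G (σA a) from RingHom.congr_fun hΨF _]
        show G (E (MvPowerSeries.C a)) = _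
        rw [hGE, MvPowerSeries.map_C]
      · rw [show Ψ (ιB (algebraMap K B c)) = ΨB (algebraMap K B c) from hΨ _,
          show ΨB (algebraMap K B c) = ΨB (ψ (1 ⊗ₜ[k] c)) from congrArg ΨB (h2 c).symm, hΨψ, hΘ2]
        rfl
    | add x y hx hy => simp only [map_add, hx, hy]
  have hleft : Ψ.comp Φ' = RingHom.id _ := by
    refine Ideal.Quotient.ringHom_ext ?_
    refine powerSeries_hom_ext Jc _ _ (fun a => ?_) (fun i => ?_) fun i => ?_
    · show Ψ (Φ (MvPowerSeries.C a)) = Ideal.Quotient.mk I' (MvPowerSeries.C a)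
      rw [hΦC]
      exact RingHom.congr_fun hΨσ a
    · show Ψ (Φ (MvPowerSeries.X i)) = Ideal.Quotient.mk I' (MvPowerSeries.X i)
      rw [hΦX, show Ψ (F (E (MvPowerSeries.X i))) = G (E (MvPowerSeries.X i)) from RingHom.congr_fun hΨF _,
        hGE, MvPowerSeries.map_X]
    · show Ψ (Φ (MvPowerSeries.X i)) ∈ Jc
      rw [hΦX, show Ψ (F (E (MvPowerSeries.X i))) = G (E (MvPowerSeries.X i)) from RingHom.congr_fun hΨF _,
        hGE, MvPowerSeries.map_X]
      exact Ideal.mem_map_of_mem _ (Ideal.subset_span ⟨i, rfl⟩)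
  have hright : Φ'.comp Ψ = RingHom.id _ := by
    refine hom_ext_of_dense ιB (maximalIdeal B) (completion_dense _ fgB) J _ _ ?_ ?_
    · intro b
      have : (Φ'.comp ΨB) = ιB := by
        refine IsLocalization.ringHom_ext ((maximalIdeal B).comap ψ).primeCompl (RingHom.ext fun r => ?_)
        show Φ' (ΨB (ψ r)) = ιB (ψ r)
        rw [hΨψ]
        induction r using TensorProduct.induction_on with
        | zero => simp
        | tmul a c =>
          rw [show a ⊗ₜ[k] c = a ⊗ₜ[k] (1 : K) * (1 : A) ⊗ₜ[k] c by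
            rw [Algebra.TensorProduct.tmul_mul_tmul, mul_one, one_mul]]
          simp only [map_mul, hΘ1, hΘ2, h1, h2]
          congr 1
          · obtain ⟨f, hf⟩ : ∃ f, E f = ιA a := by
              obtain ⟨f, hf⟩ := Ideal.Quotient.mk_surjective (e.symm (ιA a))
              exact ⟨f, (congrArg e hf).trans (e.apply_symm_apply _)⟩
            rw [RingHom.comp_apply, ← hf, hGE]
            show Φ (MvPowerSeries.map res f) = _
            rw [show Φ (MvPowerSeries.map res f) = F (E f) from RingHom.congr_fun hΦmap f, hf, hF]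
            rfl
          · show Φ (MvPowerSeries.C (residue B (algebraMap K B c))) = _
            rw [hΦC, hσK]
        | add x y hx hy => simp only [map_add, hx, hy]
      rw [RingHom.comp_apply, hΨ]
      exact RingHom.congr_fun this b
    · rw [RingHom.comp_assoc, ← Ideal.map_map]
      refine (Ideal.map_mono hΨJ).trans ?_
      show (Ideal.map (Ideal.Quotient.mk I') _).map Φ' ≤ J
      rw [Ideal.map_map, Ideal.map_le_iff_le_comap, Ideal.span_le]
      rintro _ ⟨i, rfl⟩
      show Φ (MvPowerSeries.X i) ∈ J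
      rw [hΦX]
      exact hXJ i
  let eR : (MvPowerSeries (Fin n) (ResidueField B) ⧸ I') ≃+* AdicCompletion (maximalIdeal B) B :=
    RingEquiv.ofRingHom Φ' Ψ hright hleft
  refine ⟨AlgEquiv.ofRingEquiv (f := eR) fun c => ?_, fun b => ?_⟩
  · rw [IsScalarTower.algebraMap_apply K (MvPowerSeries (Fin n) (ResidueField B)) (_ ⧸ _),
      MvPowerSeries.algebraMap_apply]
    show Φ (MvPowerSeries.C (algebraMap K (ResidueField B) c)) = _
    rw [hΦC]
    exact (hσK c).trans (IsScalarTower.algebraMap_apply K B _ c).symm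
  · rw [← hεBk, RingHom.mem_ker, map_sub, sub_eq_zero, hεB]
    show εB (Φ (MvPowerSeries.C (residue B b))) = _
    rw [hΦC]
    exact RingHom.congr_fun hσε _

end Main

end Groth.Agent.ComplBC
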